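import Cfsg.Agent.Lib.SzElements.Basic
import Mathlib

/-! Subfield subgroups of the Suzuki groups: the standard one, and every copy is conjugate to it. -/

set_option autoImplicit false
set_option linter.unusedSectionVars false

namespace Cfsg.Agent.Lib.SzSubfield.Basic

open Cfsg.Agent.Lib.LieTwisted.Suzuki Cfsg.Agent.Lib.SzElements.Basic
open scoped Matrix

variable {F : Type*} [Field F] [Fintype F] {m : ℕ}
variable {K : Type*} [Field K] [Fintype K] {k : ℕ}

/-- The scalar by which the torus acts on the centre of the root group. -/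
def mu (m : ℕ) (e : F) : F := sg m e * e ^ 2

theorem mu_injective (h : IsSzField F m) {e f : Fˣ} (hef : mu m (e : F) = mu m (f : F)) : e = f := by
  classical
  let g : Fˣ → Fˣ := fun e => Units.mk0 (mu m (e : F))
    (mul_ne_zero (mt sg_eq_zero.1 e.ne_zero) (pow_ne_zero 2 e.ne_zero))
  have hs : Function.Surjective g := fun l => by
    obtain ⟨e, he⟩ := scalar_surjective h l.ne_zero
    exact ⟨e, Units.ext he⟩
  exact Finite.injective_iff_surjective.2 hs (Units.ext hef)

variable (h : IsSzField F m) (hK : IsSzField K k) (hm : 1 ≤ m) (hk : 1 ≤ k)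
variable (σ : K →+* F) (hsg : ∀ x : K, σ (sg k x) = sg m (σ x))
include h hK hm hk hsg

theorem map_mem {g : Matrix.SpecialLinearGroup (Fin 4) K} (hg : g ∈ Cfsg.Sz K k) :
    Matrix.SpecialLinearGroup.map σ g ∈ Cfsg.Sz F m := by
  have hu : ∀ a b, Matrix.SpecialLinearGroup.map σ (uS hK a b).1 = (uS h (σ a) (σ b)).1 := fun a b => by
    ext i j
    show σ (utMat k a b i j) = utMat m (σ a) (σ b) i j
    fin_cases i <;> fin_cases j <;> simp [utMat, zfun, map_add, map_mul, map_pow, hsg]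
  have hd : ∀ e : Kˣ, Matrix.SpecialLinearGroup.map σ (dS hK e).1 =
      (dS h (Units.map (σ : K →* F) e)).1 := fun e => by
    ext i j
    show σ (dgMat k (e : K) i j) = dgMat m (σ (e : K)) i j
    fin_cases i <;> fin_cases j <;> simp [dgMat, map_mul, map_inv₀, hsg]
  have hw : Matrix.SpecialLinearGroup.map σ (wS hK).1 = (wS h).1 := by
    ext i j
    show σ (wMat K i j) = wMat F i j
    fin_cases i <;> fin_cases j <;> simp [wMat]
  obtain ⟨a, b, e, hg' | ⟨x, y, hg'⟩⟩ := hK.bruhat hk ⟨g, hg⟩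
  · rw [show g = (uS hK a b).1 * (dS hK e).1 from congrArg Subtype.val hg', map_mul, hu, hd]
    exact mul_mem (uS h _ _).2 (dS h _).2
  · rw [show g = (uS hK x y).1 * (wS hK).1 * ((uS hK a b).1 * (dS hK e).1) from congrArg Subtype.val hg',
      map_mul, map_mul, map_mul, hu, hu, hd, hw]
    exact mul_mem (mul_mem (uS h _ _).2 (wS h).2) (mul_mem (uS h _ _).2 (dS h _).2)

/-- The standard subfield subgroup. -/
def emb : Cfsg.Sz K k →* Cfsg.Sz F m :=
  ((Matrix.SpecialLinearGroup.map σ).comp (Cfsg.Sz K k).subtype).codRestrict (Cfsg.Sz F m)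
    fun g => map_mem h hK hm hk σ hsg g.2

theorem emb_uS (a b : K) : emb h hK hm hk σ hsg (uS hK a b) = uS h (σ a) (σ b) := by
  apply mat_injective
  ext i j
  show σ (utMat k a b i j) = utMat m (σ a) (σ b) i j
  fin_cases i <;> fin_cases j <;> simp [utMat, zfun, map_add, map_mul, map_pow, hsg]

theorem emb_dS (e : Kˣ) : emb h hK hm hk σ hsg (dS hK e) = dS h (Units.map (σ : K →* F) e) := by
  apply mat_injective
  ext i j
  show σ (dgMat k (e : K) i j) = dgMat m (σ (e : K)) i j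
  fin_cases i <;> fin_cases j <;> simp [dgMat, map_mul, map_inv₀, hsg]

theorem emb_wS : emb h hK hm hk σ hsg (wS hK) = wS h := by
  apply mat_injective
  ext i j
  show σ (wMat K i j) = wMat F i j
  fin_cases i <;> fin_cases j <;> simp [wMat]

theorem emb_injective : Function.Injective (emb h hK hm hk σ hsg) := by
  intro g g' e
  apply mat_injective
  ext i j
  have := congrArg (fun x => mat x i j) e
  exact σ.injective this

theorem uS_ne_one {a b : K} (hne : ¬ (a = 0 ∧ b = 0)) : uS hK a b ≠ 1 := fun e =>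
  hne (hK.uS_coords_inj (e.trans hK.uS_zero.symm))

theorem coords_ne {φ : Cfsg.Sz K k →* Cfsg.Sz F m} (hφ : Function.Injective φ) {a b : K} {a' b' : F}
    (hne : ¬ (a = 0 ∧ b = 0)) (e : φ (uS hK a b) = uS h a' b') : ¬ (a' = 0 ∧ b' = 0) := by
  rintro ⟨rfl, rfl⟩
  rw [h.uS_zero, ← map_one φ] at e
  exact uS_ne_one h hK hm hk σ hsg hne (hφ e)

theorem step_unip (φ : Cfsg.Sz K k →* Cfsg.Sz F m) :
    ∃ g : Cfsg.Sz F m, ∀ a b, g * φ (uS hK a b) * g⁻¹ ∈ unip h := by
  haveI : Fact (Nat.Prime 2) := ⟨Nat.prime_two⟩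
  obtain ⟨S, hS⟩ := hK.exists_sylow hk
  obtain ⟨P, hP⟩ := (S.isPGroup'.map φ).exists_le_sylow
  obtain ⟨x, hx⟩ := h.conj_sylow hm P
  refine ⟨x⁻¹, fun a b => ?_⟩
  have := hP ⟨uS hK a b, by rw [SetLike.mem_coe, hS]; exact hK.uS_mem a b, rfl⟩
  rw [hx] at this
  obtain ⟨u, hu, e⟩ := this
  rw [← e]
  simpa [mul_assoc] using hu

theorem step_torus {φ : Cfsg.Sz K k →* Cfsg.Sz F m} (hφ : Function.Injective φ)
    (hU : ∀ a b, φ (uS hK a b) ∈ unip h) :
    ∃ g : Cfsg.Sz F m, (∀ a b, g * φ (uS hK a b) * g⁻¹ ∈ unip h) ∧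
      ∀ ε, ∃ e, g * φ (dS hK ε) * g⁻¹ = dS h e := by
  obtain ⟨ε0, hε0⟩ := IsCyclic.exists_generator (α := Kˣ)
  obtain ⟨a1, b1, h10⟩ := hU 1 0
  obtain ⟨a2, b2, h20⟩ := hU (sg k (ε0 : K)) 0
  have hne1 := coords_ne h hK hm hk σ hsg hφ (fun z => one_ne_zero z.1) h10
  have hne2 := coords_ne h hK hm hk σ hsg hφ (fun z => mt sg_eq_zero.1 ε0.ne_zero z.1) h20
  obtain ⟨c, d, e, hcde⟩ := borel_of_conj h hm (k := φ (dS hK ε0)) hne1 hne2 (by
    rw [← h10, ← h20, ← map_inv, ← map_mul, ← map_mul, hK.dS_mul_uS, mul_inv_cancel_right]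
    simp)
  have he1 : e ≠ 1 := by
    rintro rfl
    rw [map_one, mul_one] at hcde
    have h4 : φ (dS hK ε0) ^ 4 = 1 := by
      rw [hcde]
      show uS h c d ^ (2 * 2) = 1
      rw [pow_mul, h.uS_sq, h.uS_sq, sg_zero, zero_mul, h.uS_zero]
    rw [← map_pow, ← map_pow, ← map_one φ] at h4
    have h4' : ε0 ^ 4 = 1 := hK.dS_injective ((hφ h4).trans (map_one _).symm)
    have hK2 : CharP K 2 := hK.charTwo
    have h5 : ((ε0 : K) ^ 2) ^ 2 = 1 ^ 2 := by
      rw [← pow_mul, one_pow, ← Units.val_pow_eq_pow_val, show 2 * 2 = 4 from rfl, h4', Units.val_one]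
    have hone : ε0 = 1 := Units.ext (CharTwo.sq_injective (a₁ := (ε0 : K)) (a₂ := 1)
      (show (ε0 : K) ^ 2 = 1 ^ 2 by rw [one_pow]; exact CharTwo.sq_injective (show ((ε0 : K) ^ 2) ^ 2 = (1 : K) ^ 2 from h5)))
    obtain ⟨t, ht0, ht1⟩ := hK.exists_ne01 hk
    obtain ⟨j, hj⟩ := Subgroup.mem_zpowers_iff.1 (hε0 (Units.mk0 t ht0))
    rw [hone, one_zpow] at hj
    exact ht1 (congrArg Units.val hj).symm
  have he2 : sg m (e : F) ≠ 1 := fun z => he1 (Units.ext (h.sg_injective (z.trans sg_one.symm)))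
  have he3 : mu m (e : F) ≠ 1 := fun z => he1 (mu_injective h (by rw [z]; simp [mu, sg_one]))
  set x := c / (1 + sg m (e : F)) with hx
  set y := (d + sg m c * (sg m (e : F) * x)) / (1 + mu m (e : F)) with hy
  have d1 : 1 + sg m (e : F) ≠ 0 := fun z => he2 (by linear_combination z - h.two0)
  have d2 : 1 + mu m (e : F) ≠ 0 := fun z => he3 (by linear_combination z - h.two0)
  have hxy : φ (dS hK ε0) • opt m (some (x, y)) = opt m (some (x, y)) := by
    rw [hcde, mul_smul, h.dS_smul_some, h.uS_smul_some]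
    have e1 : c + sg m (e : F) * x = x := by
      have : x * (1 + sg m (e : F)) = c := div_mul_cancel₀ c d1
      linear_combination -this + (sg m (e : F) * x) * h.two0
    have e2 : d + mu m (e : F) * y + sg m c * (sg m (e : F) * x) = y := by
      have : y * (1 + mu m (e : F)) = d + sg m c * (sg m (e : F) * x) := div_mul_cancel₀ _ d2
      linear_combination -this + (mu m (e : F) * y) * h.two0
    simp only [mu] at e2
    rw [e1, e2]
  set g := (uS h x y)⁻¹ with hg
  have hgU : g ∈ unip h := (unip h).inv_mem (h.uS_mem x y)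
  refine ⟨g, fun a b => (unip h).mul_mem ((unip h).mul_mem hgU (hU a b)) ((unip h).inv_mem hgU), ?_⟩
  have hinf : g • opt m (none : Option (F × F)) = opt m none := by
    rw [hg, inv_smul_eq_iff, h.uS_smul_none]
  have hzero : g⁻¹ • opt m (some ((0 : F), (0 : F))) = opt m (some (x, y)) := by
    rw [hg, inv_inv, h.uS_smul_zero]
  obtain ⟨e0, he0⟩ := h.eq_of_fix_two hm (g := g * φ (dS hK ε0) * g⁻¹)
    (by
      rw [mul_smul, mul_smul, inv_smul_eq_iff.2 hinf.symm, hcde, mul_smul, h.dS_smul_none,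
        h.uS_smul_none, hinf])
    (by
      rw [mul_smul, mul_smul, hzero, hxy, ← hzero, smul_inv_smul])
  intro ε
  obtain ⟨j, rfl⟩ := Subgroup.mem_zpowers_iff.1 (hε0 ε)
  refine ⟨e0 ^ j, ?_⟩
  rw [map_zpow, map_zpow, map_zpow, ← conj_zpow, he0]

theorem step_scale {φ : Cfsg.Sz K k →* Cfsg.Sz F m} (hφ : Function.Injective φ)
    (hU : ∀ a b, φ (uS hK a b) ∈ unip h) (hT : ∀ ε, ∃ e, φ (dS hK ε) = dS h e) :
    ∃ g : Cfsg.Sz F m, (∀ a b, g * φ (uS hK a b) * g⁻¹ ∈ unip h) ∧
      (∀ ε, ∃ e, g * φ (dS hK ε) * g⁻¹ = dS h e) ∧ g * φ (uS hK 0 1) * g⁻¹ = uS h 0 1 := by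
  obtain ⟨a, b, hab⟩ := hU 0 1
  have ha : a = 0 := eq_zero_of_sq h (a := a) (b := b) (by
    rw [← hab, ← map_pow, hK.uS_sq, mul_zero, hK.uS_zero, map_one])
  subst ha
  have hb : b ≠ 0 := fun z => coords_ne h hK hm hk σ hsg hφ (fun w => one_ne_zero w.2) hab ⟨rfl, z⟩
  obtain ⟨f, hf⟩ := scalar_surjective h (inv_ne_zero hb)
  refine ⟨dS h f, fun a' b' => ?_, fun ε => ?_, ?_⟩
  · obtain ⟨c, d, hcd⟩ := hU a' b'
    rw [hcd, h.dS_mul_uS, mul_inv_cancel_right]
    exact h.uS_mem _ _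
  · obtain ⟨e, he⟩ := hT ε
    exact ⟨e, by rw [he, ← map_mul, mul_comm, map_mul, mul_inv_cancel_right]⟩
  · rw [hab, h.dS_mul_uS, mul_inv_cancel_right, mul_zero, hf, inv_mul_cancel₀ hb]

theorem range_le {φ : Cfsg.Sz K k →* Cfsg.Sz F m} (hφ : Function.Injective φ)
    (hU : ∀ a b, φ (uS hK a b) ∈ unip h) (hT : ∀ ε, ∃ e, φ (dS hK ε) = dS h e)
    (hS : φ (uS hK 0 1) = uS h 0 1) : ∀ x, φ x ∈ (emb h hK hm hk σ hsg).range := by
  classical
  choose α δ hαδ using hU
  choose τ hτ using hT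
  set R := σ.fieldRange with hR
  -- the torus parameters lie in the subfield
  have hcard : 1 < Fintype.card K := Fintype.one_lt_card
  have hτR : ∀ ε, ((τ ε : Fˣ) : F) ∈ R := by
    intro ε
    have h1 : τ ε ^ (Fintype.card K - 1) = 1 := by
      apply h.dS_injective
      rw [map_pow, ← hτ, ← map_pow, ← map_pow, map_one]
      rw [show ε ^ (Fintype.card K - 1) = 1 by
        rw [← Fintype.card_units]; exact pow_card_eq_one, map_one, map_one]
    have hroot : ((τ ε : Fˣ) : F) ^ Fintype.card K = (τ ε : F) := by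
      conv_lhs => rw [← Nat.sub_add_cancel hcard.le, pow_succ, ← Units.val_pow_eq_pow_val, h1,
        Units.val_one, one_mul]
    -- all roots of `x ^ |K| = x` lie in the image
    let P : Polynomial F := Polynomial.X ^ Fintype.card K - Polynomial.X
    have hP0 : P ≠ 0 := FiniteField.X_pow_card_sub_X_ne_zero F hcard
    have hsub : Finset.univ.image σ ⊆ P.roots.toFinset := by
      intro z hz
      obtain ⟨u, -, rfl⟩ := Finset.mem_image.mp hz
      simp [P, Polynomial.mem_roots hP0, ← map_pow, FiniteField.pow_card]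
    have heq := Finset.eq_of_subset_of_card_le hsub (by
      refine (Multiset.toFinset_card_le _).trans ((P.card_roots').trans ?_)
      rw [FiniteField.X_pow_card_sub_X_natDegree_eq F hcard, Finset.card_image_of_injective _ σ.injective,
        Finset.card_univ])
    have : ((τ ε : Fˣ) : F) ∈ P.roots.toFinset := by simp [P, Polynomial.mem_roots hP0, hroot]
    rw [← heq] at this
    obtain ⟨u, -, hu⟩ := Finset.mem_image.mp this
    exact ⟨u, hu⟩
  have hsgR : ∀ z ∈ R, sg m z ∈ R := by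
    rintro _ ⟨u, rfl⟩
    exact ⟨sg k u, hsg u⟩
  -- equivariance
  have equiv : ∀ (ε : Kˣ) (a b : K), α (sg k (ε : K) * a) (sg k (ε : K) * (ε : K) ^ 2 * b) = sg m (τ ε : F) * α a b ∧
      δ (sg k (ε : K) * a) (sg k (ε : K) * (ε : K) ^ 2 * b) =
        sg m (τ ε : F) * (τ ε : F) ^ 2 * δ a b := by
    intro ε a b
    have e := congrArg φ (hK.dS_mul_uS ε a b)
    rw [map_mul, map_mul, hτ, hαδ, hαδ, h.dS_mul_uS] at e
    obtain ⟨e1, e2, -⟩ := h.borel_coords_inj e
    exact ⟨e1.symm, e2.symm⟩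
  have hα0 : ∀ b, α 0 b = 0 := fun b => eq_zero_of_sq h (b := δ 0 b) (by
    rw [← hαδ, ← map_pow, hK.uS_sq, mul_zero, hK.uS_zero, map_one])
  have hδ1 : δ 0 1 = 1 := (h.uS_coords_inj ((hαδ 0 1).symm.trans hS)).2
  have hzero : α 0 0 = 0 ∧ δ 0 0 = 0 := h.uS_coords_inj (by
    rw [← hαδ, hK.uS_zero, map_one, h.uS_zero])
  have hδR : ∀ b, δ 0 b ∈ R := by
    intro b
    by_cases hb : b = 0
    · rw [hb, hzero.2]; exact R.zero_mem
    · obtain ⟨ε, hε⟩ := scalar_surjective hK hb
      have := (equiv ε 0 1).2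
      rw [mul_zero, mul_one, hε, hδ1, mul_one] at this
      rw [this]
      exact R.mul_mem (hsgR _ (hτR ε)) (R.pow_mem (hτR ε) 2)
  have hA : α 1 0 = 1 := by
    refine h.sg_mul_self_inj ?_
    have e := congrArg φ (hK.uS_sq (1 : K) 0)
    rw [map_pow, hαδ, h.uS_sq, sg_one, mul_one, hS] at e
    rw [(h.uS_coords_inj e).2, sg_one, one_mul]
  have hαR : ∀ ε : Kˣ, α (sg k (ε : K)) 0 = sg m (τ ε : F) := by
    intro ε
    have := (equiv ε 1 0).1
    rwa [mul_one, mul_zero, hA, mul_one] at this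
  have hδε : ∀ ε : Kˣ, δ (sg k (ε : K)) 0 = sg m (τ ε : F) * (τ ε : F) ^ 2 * δ 1 0 := by
    intro ε
    have := (equiv ε 1 0).2
    rwa [mul_one, mul_zero] at this
  have hD : δ 1 0 ∈ R := by
    obtain ⟨t, ht0, ht1⟩ := hK.exists_ne01 hk
    obtain ⟨u1, hu1⟩ := hK.sg_surjective t
    obtain ⟨u2, hu2⟩ := hK.sg_surjective (1 + t)
    have hu1' : u1 ≠ 0 := fun z => ht0 (by rw [← hu1, z, sg_zero])
    have hu2' : u2 ≠ 0 := fun z => ht1 (by
      rw [z, sg_zero] at hu2
      linear_combination -hu2 - hK.two0)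
    have a1 := hαR (Units.mk0 u1 hu1'); have b1 := hδε (Units.mk0 u1 hu1')
    have a2 := hαR (Units.mk0 u2 hu2'); have b2 := hδε (Units.mk0 u2 hu2')
    simp only [Units.val_mk0, hu1, hu2] at a1 b1 a2 b2
    set l := sg m (τ (Units.mk0 u1 hu1') : F) with hl
    set l2 := sg m (τ (Units.mk0 u2 hu2') : F) with hl2
    have e : uS hK 1 0 * uS hK t 0 = uS hK (1 + t) 0 * uS hK 0 t := by
      rw [hK.uS_mul, hK.uS_mul]; simp [sg_one]
    have e' := congrArg φ e
    rw [map_mul, map_mul, hαδ, hαδ, hαδ, hαδ, h.uS_mul, h.uS_mul, hα0, hA, a1, a2, b1, b2, sg_one] at e'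
    obtain ⟨e1, e2⟩ := h.uS_coords_inj e'
    rw [add_zero] at e1
    have hs1 : sg m l = (τ (Units.mk0 u1 hu1') : F) ^ 2 := h.sg_sg _
    have hs2 : sg m l2 = (τ (Units.mk0 u2 hu2') : F) ^ 2 := h.sg_sg _
    rw [← hs1, ← hs2, ← e1, h.sg_add, sg_one] at e2
    have hl0 : l ≠ 0 := mt sg_eq_zero.1 (τ (Units.mk0 u1 hu1')).ne_zero
    have hl20 : l2 ≠ 0 := mt sg_eq_zero.1 (τ (Units.mk0 u2 hu2')).ne_zero
    have hl1 : l ≠ 1 := fun z => hl20 (by rw [← e1, z]; linear_combination h.two0)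
    have hne : l + sg m l ≠ 0 := fun z => h.sg_ne_self hl0 hl1 (by linear_combination z - l * h.two0)
    have key : δ 1 0 = (l + δ 0 t) / (l + sg m l) := by
      rw [eq_div_iff hne]
      linear_combination e2 + (δ 1 0 * (l + sg m l) - l) * h.two0
    rw [key]
    have hlR : l ∈ R := hsgR _ (hτR _)
    exact R.div_mem (R.add_mem hlR (hδR t)) (R.add_mem hlR (hsgR _ hlR))
  have huR : ∀ a b, φ (uS hK a b) ∈ (emb h hK hm hk σ hsg).range := by
    intro a b
    have hb' : φ (uS hK 0 b) ∈ (emb h hK hm hk σ hsg).range := by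
      obtain ⟨y, hy⟩ := hδR b
      exact ⟨uS hK 0 y, by rw [emb_uS, hαδ, hα0, map_zero, hy]⟩
    have ha' : φ (uS hK a 0) ∈ (emb h hK hm hk σ hsg).range := by
      by_cases ha : a = 0
      · rw [ha, hK.uS_zero, map_one]; exact one_mem _
      · obtain ⟨u, hu⟩ := hK.sg_surjective a
        have hu0 : u ≠ 0 := fun z => ha (by rw [← hu, z, sg_zero])
        have r1 : α a 0 ∈ R := by
          have := hαR (Units.mk0 u hu0)
          rw [Units.val_mk0, hu] at this
          rw [this]; exact hsgR _ (hτR _)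
        have r2 : δ a 0 ∈ R := by
          have := hδε (Units.mk0 u hu0)
          rw [Units.val_mk0, hu] at this
          rw [this]
          exact R.mul_mem (R.mul_mem (hsgR _ (hτR _)) (R.pow_mem (hτR _) 2)) hD
        obtain ⟨x, hx⟩ := r1
        obtain ⟨y, hy⟩ := r2
        exact ⟨uS hK x y, by rw [emb_uS, hαδ, hx, hy]⟩
    have e : uS hK a b = uS hK a 0 * uS hK 0 b := by rw [hK.uS_mul]; simp
    rw [e, map_mul]; exact mul_mem ha' hb'
  have hdR : ∀ ε, φ (dS hK ε) ∈ (emb h hK hm hk σ hsg).range := by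
    intro ε
    obtain ⟨u, hu⟩ := hτR ε
    have hu0 : u ≠ 0 := fun z => (τ ε).ne_zero (by rw [← hu, z, map_zero])
    refine ⟨dS hK (Units.mk0 u hu0), ?_⟩
    rw [emb_dS, hτ]
    congr 1
    exact Units.ext hu
  -- the Weyl element
  obtain ⟨t, ht0, ht1⟩ := hK.exists_ne01 hk
  set ε1 : Kˣ := Units.mk0 t ht0 with hε1
  have hε1' : ε1 ≠ 1 := fun z => ht1 (congrArg Units.val z)
  set W := φ (wS hK) with hW
  have hWW : W * W = 1 := by rw [hW, ← map_mul, hK.wS_mul_self, map_one]
  have hτ1 : ∀ ε, ε ≠ 1 → τ ε ≠ 1 := by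
    intro ε hε z
    refine hε (hK.dS_injective (hφ ?_))
    rw [hτ, z, map_one, map_one, map_one]
  have hUfix : ∀ a b, φ (uS hK a b) • opt m (none : Option (F × F)) = opt m none := fun a b => by
    rw [hαδ, h.uS_smul_none]
  have hDfix : ∀ ε, φ (dS hK ε) • opt m (none : Option (F × F)) = opt m none := fun ε => by
    rw [hτ, h.dS_smul_none]
  have hWinf : W • opt m (none : Option (F × F)) ≠ opt m none := by
    intro hfix
    have hle : φ.range ≤ MulAction.stabilizer (Cfsg.Sz F m) (Cfsg.suzukiPointInfinity F) := by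
      rintro _ ⟨x, rfl⟩
      rw [← opt_none (m := m), MulAction.mem_stabilizer_iff]
      obtain ⟨a, b, e, rfl | ⟨c, d, rfl⟩⟩ := hK.bruhat hk x
      · rw [map_mul, mul_smul, hDfix, hUfix]
      · rw [map_mul, map_mul, map_mul, mul_smul, mul_smul, mul_smul, hDfix, hUfix, ← hW, hfix, hUfix]
    have hcomm : φ.range ≤ unip h := by
      refine le_trans ?_ (h.commutator_borel_le hm)
      rw [MonoidHom.range_eq_map, ← hK.perfect hk, commutator_def, Subgroup.map_commutator,
        ← MonoidHom.range_eq_map]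
      exact Subgroup.commutator_mono hle hle
    obtain ⟨a, b, e⟩ := hcomm ⟨dS hK ε1, rfl⟩
    rw [hτ] at e
    exact hτ1 ε1 hε1' (h.borel_coords_inj (a := 0) (b := 0) (a' := a) (b' := b) (e := τ ε1) (e' := 1)
      (by rw [h.uS_zero, one_mul, e, map_one, mul_one])).2.2
  obtain ⟨p, hp⟩ := h.exists_opt_eq_smul hm W
  have hp0 : p = some (0, 0) := by
    rcases p with _ | ⟨x, y⟩
    · exact absurd hp hWinf
    · by_contra hne
      have hinv : φ (dS hK ε1⁻¹) • opt m (some (x, y)) = opt m (some (x, y)) := by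
        rw [← hp, ← mul_smul, hW, ← map_mul, ← hK.wS_mul_dS, map_mul, mul_smul, hDfix]
      rw [hτ] at hinv
      exact hτ1 ε1⁻¹ (fun z => hε1' (inv_eq_one.mp z)) (h.dS_injective ((h.fix_three hm (h.dS_smul_none _) (h.dS_smul_zero _)
        (fun z => hne (by rw [z.1, z.2])) hinv).trans (map_one _).symm))
  rw [hp0] at hp
  have hW0 : W • opt m (some ((0 : F), (0 : F))) = opt m none := by
    rw [← hp, ← mul_smul, hWW, one_smul]
  obtain ⟨f, hf⟩ := h.eq_of_fix_two hm (g := wS h * W)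
    (by rw [mul_smul, hp, h.wS_smul_zero]) (by rw [mul_smul, hW0, h.wS_smul_none])
  have hWf : W = wS h * dS h f := by rw [← hf, ← mul_assoc, h.wS_mul_self, one_mul]
  -- the parameter of `W` lies in the subfield
  have hfR : ((f : Fˣ) : F) ∈ R := by
    set μ := sg m (f : F) * (f : F) ^ 2 with hμ
    have hμ0 : μ ≠ 0 := mul_ne_zero (mt sg_eq_zero.1 f.ne_zero) (pow_ne_zero 2 f.ne_zero)
    have himg : φ (wS hK * uS hK 0 1 * wS hK) • opt m (none : Option (F × F)) =
        opt m (some (μ / sg m μ, 0)) := by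
      rw [map_mul, map_mul, mul_smul, mul_smul, ← hW, hp, hS, h.uS_smul_zero, hWf, mul_smul,
        h.dS_smul_some, mul_zero, mul_one, ← hμ]
      have hz : zfun m (0 : F) μ ≠ 0 := by simpa [zfun, sg_zero, sg_eq_zero] using hμ0
      refine smul_opt_of _ (zfun m (0 : F) μ) ?_
      show mat (wS h) *ᵥ pt m (0 : F) μ = zfun m (0 : F) μ • pt m (μ / sg m μ) 0
      rw [h.mat_wS, h.wMat_pt hz]
      simp [zfun, sg_zero]
    have hmem : μ / sg m μ ∈ R := by
      obtain ⟨a, b, e, hx | ⟨c, d, hx⟩⟩ := hK.bruhat hk (wS hK * uS hK 0 1 * wS hK)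
      · rw [hx, map_mul, mul_smul, hDfix, hUfix] at himg
        exact absurd (opt_injective himg) (by simp)
      · rw [hx, map_mul, map_mul, map_mul, mul_smul, mul_smul, mul_smul, hDfix, hUfix, ← hW, hp] at himg
        obtain ⟨g, hg⟩ := huR c d
        rw [← hg] at himg
        obtain ⟨c', d', e', hgc | ⟨c'', d'', hgc⟩⟩ := hK.bruhat hk g
        · rw [hgc, map_mul, emb_uS, emb_dS, mul_smul, h.dS_smul_zero, h.uS_smul_zero] at himg
          have hh := (Prod.ext_iff.1 (Option.some.inj (opt_injective himg))).1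
          simp only at hh
          rw [← hh]
          exact ⟨c', rfl⟩
        · exfalso
          have hfix := hUfix c d
          rw [← hg, hgc, map_mul, map_mul, map_mul, emb_uS, emb_uS, emb_dS, emb_wS, mul_smul, mul_smul,
            mul_smul, h.dS_smul_none, h.uS_smul_none, h.wS_smul_none, h.uS_smul_zero] at hfix
          exact absurd (opt_injective hfix) (by simp)
    -- descend from the ratio to `μ`
    have hμR : μ ∈ R := by
      obtain ⟨z, hz⟩ := hmem
      have hpow : (μ / sg m μ) ^ Fintype.card K = μ / sg m μ := by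
        rw [← hz, ← map_pow, FiniteField.pow_card]
      set r := μ ^ Fintype.card K / μ with hr
      have hr1 : sg m r = r := by
        have hsμ : sg m μ ≠ 0 := mt sg_eq_zero.1 hμ0
        rw [hr, div_eq_mul_inv, sg_mul, sg_inv, sg_pow]
        rw [div_pow] at hpow
        field_simp at hpow ⊢
        linear_combination -hpow
      have hr0 : r ≠ 0 := div_ne_zero (pow_ne_zero _ hμ0) hμ0
      have hroot : μ ^ Fintype.card K = μ := by
        by_contra hne
        refine h.sg_ne_self hr0 (fun z1 => hne ?_) hr1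
        exact (div_eq_one_iff_eq hμ0).1 z1
      let P : Polynomial F := Polynomial.X ^ Fintype.card K - Polynomial.X
      have hP0 : P ≠ 0 := FiniteField.X_pow_card_sub_X_ne_zero F hcard
      have hsub : Finset.univ.image σ ⊆ P.roots.toFinset := by
        intro z hz
        obtain ⟨u, -, rfl⟩ := Finset.mem_image.mp hz
        simp [P, Polynomial.mem_roots hP0, ← map_pow, FiniteField.pow_card]
      have heq := Finset.eq_of_subset_of_card_le hsub (by
        refine (Multiset.toFinset_card_le _).trans ((P.card_roots').trans ?_)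
        rw [FiniteField.X_pow_card_sub_X_natDegree_eq F hcard, Finset.card_image_of_injective _ σ.injective,
          Finset.card_univ])
      have : μ ∈ P.roots.toFinset := by simp [P, Polynomial.mem_roots hP0, hroot]
      rw [← heq] at this
      obtain ⟨u, -, hu⟩ := Finset.mem_image.mp this
      exact ⟨u, hu⟩
    obtain ⟨z, hz⟩ := hμR
    obtain ⟨u, hu⟩ := scalar_surjective hK (l := z) (fun e => hμ0 (by rw [← hz, e, map_zero]))
    have := mu_injective h (e := f) (f := Units.map (σ : K →* F) u) (by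
      show μ = _
      rw [← hz, ← hu]
      simp [mu, hsg])
    rw [this]
    exact ⟨u, rfl⟩
  have hwR : W ∈ (emb h hK hm hk σ hsg).range := by
    obtain ⟨u, hu⟩ := hfR
    have hu0 : u ≠ 0 := fun z => f.ne_zero (by rw [← hu, z, map_zero])
    refine ⟨wS hK * dS hK (Units.mk0 u hu0), ?_⟩
    rw [map_mul, emb_wS, emb_dS, hWf]
    congr 2
    exact Units.ext hu
  intro x
  obtain ⟨a, b, e, rfl | ⟨c, d, rfl⟩⟩ := hK.bruhat hk x
  · rw [map_mul]; exact mul_mem (huR a b) (hdR e)
  · rw [map_mul, map_mul, map_mul]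
    exact mul_mem (mul_mem (huR c d) hwR) (mul_mem (huR a b) (hdR e))

/-- Every copy of the smaller group is conjugate to the standard one. -/
theorem exists_conj {φ : Cfsg.Sz K k →* Cfsg.Sz F m} (hφ : Function.Injective φ) :
    ∃ g : Cfsg.Sz F m, φ.range.map (MulAut.conj g).toMonoidHom = (emb h hK hm hk σ hsg).range := by
  obtain ⟨g1, hg1⟩ := step_unip h hK hm hk σ hsg φ
  let φ1 : Cfsg.Sz K k →* Cfsg.Sz F m := (MulAut.conj g1).toMonoidHom.comp φ
  have hφ1 : Function.Injective φ1 := (MulAut.conj g1).injective.comp hφ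
  obtain ⟨g2, hg2, hg2'⟩ := step_torus h hK hm hk σ hsg hφ1 hg1
  let φ2 : Cfsg.Sz K k →* Cfsg.Sz F m := (MulAut.conj g2).toMonoidHom.comp φ1
  have hφ2 : Function.Injective φ2 := (MulAut.conj g2).injective.comp hφ1
  obtain ⟨g3, h3, h3', h3''⟩ := step_scale h hK hm hk σ hsg (φ := φ2) hφ2 hg2 hg2'
  let φ3 : Cfsg.Sz K k →* Cfsg.Sz F m := (MulAut.conj g3).toMonoidHom.comp φ2
  have hφ3 : Function.Injective φ3 := (MulAut.conj g3).injective.comp hφ2
  have hle := range_le h hK hm hk σ hsg (φ := φ3) hφ3 h3 h3' h3''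
  refine ⟨g3 * g2 * g1, Subgroup.eq_of_le_of_card_ge ?_ ?_⟩
  · rintro _ ⟨_, ⟨x, rfl⟩, rfl⟩
    have := hle x
    simpa [φ3, φ2, φ1, MulAut.conj_apply, mul_assoc] using this
  · rw [Subgroup.card_map_of_injective (MulAut.conj _).injective,
      ← Nat.card_congr (MonoidHom.ofInjective hφ).toEquiv,
      ← Nat.card_congr (MonoidHom.ofInjective (emb_injective h hK hm hk σ hsg)).toEquiv]

end Cfsg.Agent.Lib.SzSubfield.Basic
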